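import Mathlib
import Groth.Prelude.Def_W4swconnpcurvhiggsLogLam
import Groth.Prelude.Def_LogDiff

/-! Pieces and layers of a logarithmic lambda-connection. -/

set_option autoImplicit false
set_option backward.isDefEq.respectTransparency false

universe v u

open TensorProduct Finset

noncomputable section

namespace Groth.Agent.LogConnLib

variable {A : Type v} {B L E : Type u} [CommRing A] [CommRing B] [Algebra A B]
  [AddCommGroup L] [Module B L] [Module A L] [IsScalarTower A B L]
  [AddCommGroup E] [Module B E] [Module A E] [IsScalarTower A B E] {n : ℕ}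

theorem expand {ι' : Type*} [Fintype ι'] {P : Type u} [AddCommGroup P] [Module B P] (b : Module.Basis ι' B P)
    (x : E ⊗[B] P) :
    x = ∑ i, (TensorProduct.rid B E (TensorProduct.map LinearMap.id (b.coord i) x)) ⊗ₜ[B] b i := by
  induction x with
  | zero => simp
  | add x y hx hy => simp only [map_add, add_tmul, Finset.sum_add_distrib, ← hx, ← hy]
  | tmul e v =>
    simp only [TensorProduct.map_tmul, LinearMap.id_apply, TensorProduct.rid_tmul, smul_tmul, ← tmul_sum,
      Module.Basis.coord_apply, b.sum_repr]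

theorem coordE_tmul (ω : Module.Basis (Fin n) B L) {p : ℕ} (K : Set.powersetCard (Fin n) p) (y : E)
    (v : Fin p → L) :
    LogConn.coordE ω p K (y ⊗ₜ[B] exteriorPower.ιMulti B p v) =
      (Matrix.of fun i j => ω.coord (Set.powersetCard.ofFinEmbEquiv.symm K j) (v i)).det • y := by
  simp [LogConn.coordE, exteriorPower.basis_repr_apply]

theorem coordE_eq (ω : Module.Basis (Fin n) B L) {p : ℕ} (x : E ⊗[B] ↥(⋀[B]^p L)) :
    x = ∑ K, LogConn.coordE ω p K x ⊗ₜ[B] ω.exteriorPower p K :=
  expand (ω.exteriorPower p) x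

theorem basis_eq (ω : Module.Basis (Fin n) B L) {p : ℕ} (K : Set.powersetCard (Fin n) p) :
    ω.exteriorPower p K = exteriorPower.ιMulti B p (ω ∘ Set.powersetCard.ofFinEmbEquiv.symm K) :=
  exteriorPower.basis_apply _ _ _ _

theorem prod_inter_dvd_det {m : ℕ} (t : Fin n → B) (S : Finset (Fin n)) (r : Fin m → Fin n)
    (hr : Function.Injective r) (M : Matrix (Fin m) (Fin m) B) (h : ∀ i c, r c ∈ S → t (r c) ∣ M i c) :
    (∏ j ∈ S ∩ Finset.univ.image r, t j) ∣ M.det := by
  classical
  rw [Matrix.det_apply]
  refine Finset.dvd_sum fun σ _ => dvd_smul_of_dvd _ ?_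
  calc (∏ j ∈ S ∩ Finset.univ.image r, t j) = ∏ c, if r c ∈ S then t (r c) else 1 := by
        rw [Finset.inter_comm, ← Finset.prod_ite_mem, Finset.prod_image fun a _ b _ h => hr h]
    _ ∣ ∏ c, M (σ c) c := Finset.prod_dvd_prod_of_dvd _ _ fun c _ => by
        split_ifs with hc
        · exact h _ _ hc
        · exact one_dvd _

theorem mem_iff_exists {p : ℕ} (K : Set.powersetCard (Fin n) p) (j : Fin n) :
    j ∈ (K : Finset (Fin n)) ↔ ∃ c, Set.powersetCard.ofFinEmbEquiv.symm K c = j :=
  (Set.powersetCard.mem_range_ofFinEmbEquiv_symm_iff_mem K j).symm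

theorem image_ofFin {p : ℕ} (K : Set.powersetCard (Fin n) p) :
    Finset.univ.image (Set.powersetCard.ofFinEmbEquiv.symm K) = (K : Finset (Fin n)) := by
  ext j; simp [mem_iff_exists]

/-- The hypotheses: `nabla` is a lambda-connection, the forms without poles have coordinates divisible by `t`. -/
structure Data (lam : B) (t : Fin n → B) (ω : Module.Basis (Fin n) B L) (nabla : E →ₗ[A] E ⊗[B] L)
    (ι : KaehlerDifferential A B →ₗ[B] L) : Prop where
  hc : Conn.IsLamConn (ι.compDer (KaehlerDifferential.D A B)) lam nabla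
  hι : ∀ i, ι (KaehlerDifferential.D A B (t i)) = t i • ω i
  dvd : ∀ i (x : KaehlerDifferential A B), t i ∣ ω.coord i (ι x)

theorem Data.mk' {lam : B} {t : Fin n → B} {ω : Module.Basis (Fin n) B L} {nabla : E →ₗ[A] E ⊗[B] L}
    {ι : KaehlerDifferential A B →ₗ[B] L} (bΩ : Module.Basis (Fin n) B (KaehlerDifferential A B))
    (hbΩ : ∀ i, bΩ i = KaehlerDifferential.D A B (t i))
    (hι : ∀ i, ι (KaehlerDifferential.D A B (t i)) = t i • ω i)
    (hc : Conn.IsLamConn (ι.compDer (KaehlerDifferential.D A B)) lam nabla) : Data lam t ω nabla ι := by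
  refine ⟨hc, hι, fun i x => ⟨bΩ.repr x i, ?_⟩⟩
  conv_lhs => rw [← bΩ.sum_repr x]
  simp [hbΩ, hι, Finsupp.single_apply, mul_comm]

variable {lam : B} {t : Fin n → B} {ω : Module.Basis (Fin n) B L} {nabla : E →ₗ[A] E ⊗[B] L}
  {ι : KaehlerDifferential A B →ₗ[B] L}

variable (ω ι) in
/-- The derivation `t_i ∂/∂t_i`. -/
def theta (i : Fin n) (b : B) : B := ω.coord i (ι (KaehlerDifferential.D A B b))

theorem comp_smul (h : Data lam t ω nabla ι) (i : Fin n) (b : B) (e : E) :
    LogConn.comp nabla ω i (b • e) = b • LogConn.comp nabla ω i e + (lam * theta ω ι i b) • e := by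
  simp [LogConn.comp, Conn.along, h.hc b e, theta, mul_smul]

theorem theta_prod (h : Data lam t ω nabla ι) (i : Fin n) (S : Finset (Fin n)) :
    theta ω ι i (∏ j ∈ S, t j) = if i ∈ S then ∏ j ∈ S, t j else 0 := by
  classical
  induction S using Finset.induction_on with
  | empty => simp [theta]
  | insert a S ha ih =>
    have h1 : theta ω ι i (t a * ∏ j ∈ S, t j) =
        t a * theta ω ι i (∏ j ∈ S, t j) + (∏ j ∈ S, t j) * theta ω ι i (t a) := by
      simp only [theta, Derivation.leibniz, map_add, map_smul, smul_eq_mul]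
    have h2 : theta ω ι i (t a) = if i = a then t a else 0 := by
      simp [theta, h.hι, Finsupp.single_apply, eq_comm]
    rw [Finset.prod_insert ha, h1, ih, h2]
    by_cases hia : i = a
    · subst hia; simp [ha, mul_comm]
    · simp [hia]

theorem compProd_empty (e : E) : LogConn.compProd nabla ω ∅ e = e := by
  simp [LogConn.compProd]

theorem compProd_insert {a : Fin n} {s : Finset (Fin n)} (h : ∀ x ∈ s, a < x) (e : E) :
    LogConn.compProd nabla ω (insert a s) e = LogConn.comp nabla ω a (LogConn.compProd nabla ω s e) := by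
  rw [LogConn.compProd, LogConn.compProd,
    Finset.sort_insert (s := s) (r := (· ≤ ·)) (fun b hb => (h b hb).le) (fun ha => lt_irrefl a (h a ha))]
  rfl

theorem gen_mem {I J : Finset (Fin n)} (hJ : J ⊆ I) (e : E) :
    (∏ i ∈ I \ J, t i) • LogConn.compProd nabla ω J e ∈ LogConn.piece nabla ω t I :=
  (le_iSup₂ (f := fun J (_ : J ∈ I.powerset) => LinearMap.range
    (((LinearMap.lsmul B E (∏ i ∈ I \ J, t i)).restrictScalars A) ∘ₗ LogConn.compProd nabla ω J))
    J (Finset.mem_powerset.2 hJ)) ⟨e, rfl⟩

@[elab_as_elim]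
theorem piece_induction {I : Finset (Fin n)} {x : E} (hx : x ∈ LogConn.piece nabla ω t I) {P : E → Prop}
    (zero : P 0) (add : ∀ x y, P x → P y → P (x + y))
    (gen : ∀ J ⊆ I, ∀ e, P ((∏ i ∈ I \ J, t i) • LogConn.compProd nabla ω J e)) : P x := by
  rw [LogConn.piece] at hx
  refine Submodule.iSup_induction _ (motive := P) hx (fun J y hy => ?_) zero add
  refine Submodule.iSup_induction _ (motive := P) hy (fun hJ z hz => ?_) zero add
  obtain ⟨e, rfl⟩ := hz
  exact gen J (Finset.mem_powerset.1 hJ) e

theorem comp_min_mem (h : Data lam t ω nabla ι) {a : Fin n} {s : Finset (Fin n)} (ha : ∀ x ∈ s, a < x) {x : E}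
    (hx : x ∈ LogConn.piece nabla ω t s) : LogConn.comp nabla ω a x ∈ LogConn.piece nabla ω t (insert a s) := by
  have has : a ∉ s := fun h' => lt_irrefl a (ha a h')
  refine piece_induction hx (by simp) (fun x y hx hy => by rw [map_add]; exact add_mem hx hy) fun J hJ e => ?_
  rw [comp_smul h, theta_prod h, if_neg (by simp [has]), mul_zero, zero_smul, add_zero,
    ← compProd_insert fun x hx => ha x (hJ hx)]
  have : insert a s \ insert a J = s \ J := by
    ext j; simp only [Finset.mem_sdiff, Finset.mem_insert]; constructor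
    · rintro ⟨h1 | h1, h2⟩
      · exact absurd (Or.inl h1) h2
      · exact ⟨h1, fun h3 => h2 (Or.inr h3)⟩
    · rintro ⟨h1, h2⟩
      exact ⟨Or.inr h1, fun h3 => h3.elim (fun h4 => has (h4 ▸ h1)) h2⟩
  rw [← this]
  exact gen_mem (Finset.insert_subset_insert a hJ) e

theorem prod_smul_mem {I K : Finset (Fin n)} (hIK : I ⊆ K) {x : E} (hx : x ∈ LogConn.piece nabla ω t I) :
    (∏ i ∈ K \ I, t i) • x ∈ LogConn.piece nabla ω t K := by
  refine piece_induction hx (by simp) (fun x y hx hy => by rw [smul_add]; exact add_mem hx hy) fun J hJ e => ?_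
  rw [smul_smul, ← Finset.prod_union (Finset.disjoint_left.2 fun j h1 h2 =>
    (Finset.mem_sdiff.1 h1).2 (Finset.mem_sdiff.1 h2).1)]
  have : K \ I ∪ I \ J = K \ J := by
    ext j
    simp only [Finset.mem_union, Finset.mem_sdiff]
    exact ⟨fun h => h.elim (fun h => ⟨h.1, fun h' => h.2 (hJ h')⟩) (fun h => ⟨hIK h.1, h.2⟩),
      fun h => by by_cases hI : j ∈ I <;> simp [h.1, h.2, hI]⟩
  rw [this]
  exact gen_mem (hJ.trans hIK) e

theorem t_smul_mem {a : Fin n} {s : Finset (Fin n)} (ha : a ∉ s) {x : E}
    (hx : x ∈ LogConn.piece nabla ω t s) : t a • x ∈ LogConn.piece nabla ω t (insert a s) := by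
  have := prod_smul_mem (K := insert a s) (Finset.subset_insert a s) hx
  rwa [Finset.insert_sdiff_of_notMem _ ha, Finset.sdiff_self, Finset.insert_empty, Finset.prod_singleton] at this

theorem smul_compProd_mem (h : Data lam t ω nabla ι) (J : Finset (Fin n)) :
    ∀ (b : B) (e : E), b • LogConn.compProd nabla ω J e ∈ LogConn.piece nabla ω t J := by
  classical
  induction J using Finset.induction_on_min with
  | empty =>
    intro b e
    simpa [compProd_empty] using gen_mem (nabla := nabla) (ω := ω) (t := t) (Finset.Subset.refl ∅) (b • e)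
  | insert a s ha ih =>
    intro b e
    obtain ⟨c, hc⟩ := h.dvd a (KaehlerDifferential.D A B b)
    have h1 := comp_smul h a b (LogConn.compProd nabla ω s e)
    rw [show theta ω ι a b = t a * c from hc, show lam * (t a * c) = t a * (lam * c) by ring, mul_smul] at h1
    rw [compProd_insert ha, eq_sub_of_add_eq h1.symm]
    exact sub_mem (comp_min_mem h ha (ih b e)) (t_smul_mem (fun h' => lt_irrefl a (ha a h')) (ih _ e))

theorem smul_mem (h : Data lam t ω nabla ι) {I : Finset (Fin n)} (b : B) {x : E}
    (hx : x ∈ LogConn.piece nabla ω t I) : b • x ∈ LogConn.piece nabla ω t I := by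
  refine piece_induction hx (by simp) (fun x y hx hy => by rw [smul_add]; exact add_mem hx hy) fun J hJ e => ?_
  rw [smul_comm]
  exact prod_smul_mem hJ (smul_compProd_mem h J b e)

/-- The pieces as `B`-submodules. -/
def pieceB (h : Data lam t ω nabla ι) (I : Finset (Fin n)) : Submodule B E :=
  { LogConn.piece nabla ω t I with smul_mem' := fun b _ hx => smul_mem h b hx }

theorem dvd_smul_mem (h : Data lam t ω nabla ι) {I : Finset (Fin n)} {a b : B} (hab : a ∣ b) {x : E}
    (hx : a • x ∈ LogConn.piece nabla ω t I) : b • x ∈ LogConn.piece nabla ω t I := by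
  obtain ⟨c, rfl⟩ := hab
  rw [mul_comm, mul_smul]
  exact smul_mem h c hx

theorem mem_layer_iff {p : ℕ} {x : E ⊗[B] ↥(⋀[B]^p L)} :
    x ∈ LogConn.layer nabla ω t p ↔
      ∀ K : Set.powersetCard (Fin n) p, LogConn.coordE ω p K x ∈ LogConn.piece nabla ω t (K : Finset (Fin n)) := by
  simp only [LogConn.layer, Submodule.mem_iInf, Submodule.mem_comap, LinearMap.restrictScalars_apply]

/-- Flatness: the components commute. -/
def Commutes (nabla : E →ₗ[A] E ⊗[B] L) (ω : Module.Basis (Fin n) B L) : Prop :=
  ∀ i j (e : E), LogConn.comp nabla ω i (LogConn.comp nabla ω j e) = LogConn.comp nabla ω j (LogConn.comp nabla ω i e)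

theorem comp_compProd (hC : Commutes nabla ω) (i : Fin n) (J : Finset (Fin n)) (e : E) :
    LogConn.comp nabla ω i (LogConn.compProd nabla ω J e) =
      LogConn.compProd nabla ω J (LogConn.comp nabla ω i e) := by
  induction J using Finset.induction_on_min with
  | empty => simp [compProd_empty]
  | insert a s ha ih => rw [compProd_insert ha, compProd_insert ha, hC, ih]

theorem compProd_insert' (hC : Commutes nabla ω) {i : Fin n} {J : Finset (Fin n)} (hi : i ∉ J) (e : E) :
    LogConn.compProd nabla ω (insert i J) e = LogConn.comp nabla ω i (LogConn.compProd nabla ω J e) := by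
  induction J using Finset.induction_on_min with
  | empty => exact compProd_insert (by simp) e
  | insert a s ha ih =>
    simp only [Finset.mem_insert, not_or] at hi
    rcases lt_trichotomy i a with hia | hia | hia
    · exact compProd_insert (fun x hx => by
        rcases Finset.mem_insert.1 hx with rfl | hx
        · exact hia
        · exact hia.trans (ha x hx)) e
    · exact absurd hia hi.1
    · rw [Finset.insert_comm, compProd_insert (fun x hx => by
        rcases Finset.mem_insert.1 hx with rfl | hx
        · exact hia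
        · exact ha x hx), ih hi.2, hC, ← compProd_insert ha]

theorem compProd_union (hC : Commutes nabla ω) {J J' : Finset (Fin n)} (hd : Disjoint J J') (e : E) :
    LogConn.compProd nabla ω (J ∪ J') e = LogConn.compProd nabla ω J (LogConn.compProd nabla ω J' e) := by
  induction J using Finset.induction_on_min with
  | empty => simp [compProd_empty]
  | insert a s ha ih =>
    rw [Finset.disjoint_insert_left] at hd
    rw [Finset.insert_union, compProd_insert' hC (by
      simp only [Finset.mem_union, not_or]
      exact ⟨fun h' => lt_irrefl a (ha a h'), hd.1⟩), ih hd.2, compProd_insert ha]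

theorem absorb (h : Data lam t ω nabla ι) (hC : Commutes nabla ω) {S J K : Finset (Fin n)} (hK : K ⊆ S ∪ J) (e : E) :
    (∏ i ∈ S, t i) • LogConn.compProd nabla ω J e ∈ LogConn.piece nabla ω t K := by
  rw [show J = J ∩ K ∪ J \ K by rw [Finset.union_comm, Finset.sdiff_union_inter],
    compProd_union hC (Finset.disjoint_sdiff_inter J K).symm]
  refine dvd_smul_mem h (Finset.prod_dvd_prod_of_subset (K \ (J ∩ K)) S t fun j hj => ?_)
    (gen_mem Finset.inter_subset_right _)
  obtain ⟨h1, h2⟩ := Finset.mem_sdiff.1 hj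
  rcases Finset.mem_union.1 (hK h1) with h3 | h3
  · exact h3
  · exact absurd (Finset.mem_inter.2 ⟨h3, h1⟩) h2

theorem absorb_mem (h : Data lam t ω nabla ι) (hC : Commutes nabla ω) {S I K : Finset (Fin n)} (hK : K ⊆ S ∪ I)
    {x : E} (hx : x ∈ LogConn.piece nabla ω t I) : (∏ i ∈ S, t i) • x ∈ LogConn.piece nabla ω t K := by
  refine piece_induction hx (by simp) (fun x y hx hy => by rw [smul_add]; exact add_mem hx hy) fun J hJ e => ?_
  rw [smul_smul, ← Finset.prod_union_inter, mul_comm, mul_smul]
  refine smul_mem h _ (absorb h hC (fun j hj => ?_) e)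
  rcases Finset.mem_union.1 (hK hj) with h1 | h1
  · simp [h1]
  · by_cases hjJ : j ∈ J <;> simp [h1, hjJ]

theorem mono (h : Data lam t ω nabla ι) (hC : Commutes nabla ω) {I K : Finset (Fin n)} (hK : K ⊆ I) {x : E}
    (hx : x ∈ LogConn.piece nabla ω t I) : x ∈ LogConn.piece nabla ω t K := by
  simpa using absorb_mem h hC (S := ∅) (by simpa using hK) hx

theorem comp_mem (h : Data lam t ω nabla ι) (hC : Commutes nabla ω) (i : Fin n) {K : Finset (Fin n)} {x : E}
    (hx : x ∈ LogConn.piece nabla ω t K) : LogConn.comp nabla ω i x ∈ LogConn.piece nabla ω t (insert i K) := by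
  refine piece_induction hx (by simp) (fun x y hx hy => by rw [map_add]; exact add_mem hx hy) fun J hJ e => ?_
  rw [comp_smul h, theta_prod h]
  refine add_mem ?_ ?_
  · by_cases hi : i ∈ J
    · rw [comp_compProd hC]
      refine absorb h hC (fun j hj => ?_) _
      rcases Finset.mem_insert.1 hj with rfl | hj
      · simp [hi]
      · by_cases hjJ : j ∈ J <;> simp [hj, hjJ]
    · rw [← compProd_insert' hC hi]
      refine absorb h hC (fun j hj => ?_) _
      rcases Finset.mem_insert.1 hj with rfl | hj
      · simp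
      · by_cases hjJ : j ∈ J <;> simp [hj, hjJ]
  · split_ifs with hi
    · rw [mul_smul]
      refine smul_mem h _ (absorb h hC (fun j hj => ?_) e)
      rcases Finset.mem_insert.1 hj with rfl | hj
      · exact Finset.mem_union_left _ hi
      · by_cases hjJ : j ∈ J <;> simp [hj, hjJ]
    · simp

/-- The extension of `nabla` on decomposable log forms. -/
theorem nablas_apply {d : ∀ p : ℕ, ↥(⋀[B]^p L) →ₗ[A] ↥(⋀[B]^(p + 1) L)}
    {nablas : ∀ p : ℕ, E ⊗[B] ↥(⋀[B]^p L) →ₗ[A] E ⊗[B] ↥(⋀[B]^(p + 1) L)}
    (hd : LogDiff.IsLogRule (KaehlerDifferential.D A B) ι (⇑ω) d)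
    (hr : Conn.IsCxRule nabla (fun p => lam • d p) nablas) (p : ℕ) (y : E) (r : Fin p → Fin n) :
    nablas p (y ⊗ₜ[B] exteriorPower.ιMulti B p (ω ∘ r)) =
      ∑ l, LogConn.comp nabla ω l y ⊗ₜ[B] exteriorPower.ιMulti B (p + 1) (ω ∘ Fin.cons l r) := by
  have h0 : d p (exteriorPower.ιMulti B p (ω ∘ r)) = 0 := by
    have := hd p 1 (ω ∘ r) (fun k => Or.inr ⟨r k, rfl⟩)
    rw [one_smul] at this
    rw [this]
    exact AlternatingMap.map_coord_zero _ (i := 0) (by simp)
  rw [hr, LinearMap.smul_apply, h0, smul_zero, tmul_zero, add_zero]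
  conv_lhs => rw [expand ω (nabla y)]
  rw [map_sum, map_sum, LinearMap.sum_apply]
  refine Finset.sum_congr rfl fun l _ => ?_
  rw [Conn.toOne_tmul, Conn.twedge_tmul]
  congr 1
  refine Subtype.ext ?_
  rw [Conn.wedge_apply_coe, exteriorPower.ιMulti_apply_coe, exteriorPower.ιMulti_apply_coe,
    exteriorPower.oneEquiv_symm_apply, exteriorPower.ιMulti_apply_coe, ExteriorAlgebra.ιMulti_succ_apply,
    ExteriorAlgebra.ιMulti_zero_apply, mul_one, ExteriorAlgebra.ιMulti_succ_apply (ω ∘ Fin.cons l r)]
  congr 1

theorem commutes {d : ∀ p : ℕ, ↥(⋀[B]^p L) →ₗ[A] ↥(⋀[B]^(p + 1) L)}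
    {nablas : ∀ p : ℕ, E ⊗[B] ↥(⋀[B]^p L) →ₗ[A] E ⊗[B] ↥(⋀[B]^(p + 1) L)}
    (hd : LogDiff.IsLogRule (KaehlerDifferential.D A B) ι (⇑ω) d)
    (hint : Conn.IsIntegrable nabla (fun p => lam • d p) nablas) : Commutes nabla ω := by
  classical
  suffices key : ∀ i j, i < j → ∀ e : E, LogConn.comp nabla ω i (LogConn.comp nabla ω j e) =
      LogConn.comp nabla ω j (LogConn.comp nabla ω i e) by
    intro i j e
    rcases lt_trichotomy i j with h | rfl | h
    · exact key i j h e
    · rfl
    · exact (key j i h e).symm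
  intro i j hij e
  have h0 := hint.2 e
  conv_lhs at h0 => rw [expand ω (nabla e)]
  rw [map_sum, map_sum] at h0
  let K : Set.powersetCard (Fin n) 2 := Set.powersetCard.ofFinEmbEquiv
    (OrderEmbedding.ofStrictMono ![i, j] (Fin.strictMono_iff_lt_succ.2 fun k => by fin_cases k; simpa using hij))
  have hK : ∀ c, Set.powersetCard.ofFinEmbEquiv.symm K c = ![i, j] c := fun c => by simp [K]
  have hone : ∀ m : Fin n, (exteriorPower.oneEquiv B L).symm (ω m) = exteriorPower.ιMulti B 1 (ω ∘ ![m]) :=
    fun m => by rw [exteriorPower.oneEquiv_symm_apply]; congr 1; ext c; fin_cases c; rfl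
  have h1 := congrArg (LogConn.coordE ω 2 K) h0
  simp only [Conn.toOne_tmul, hone, nablas_apply hd hint.1, map_sum, map_zero, coordE_tmul, Matrix.det_fin_two,
    Matrix.of_apply, hK, Matrix.cons_val_zero, Matrix.cons_val_one, Fin.cons_zero, Fin.cons_one,
    Function.comp_apply, Module.Basis.coord_apply, Module.Basis.repr_self, Finsupp.single_apply, sub_smul,
    Finset.sum_sub_distrib] at h1
  simp [ite_mul, mul_ite, ite_smul, Finset.sum_ite_eq'] at h1
  exact sub_eq_zero.1 h1

theorem eq_span (h : Data lam t ω nabla ι) {m : ℕ} (e : Fin m → E) (he : Submodule.span B (Set.range e) = ⊤)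
    (I : Finset (Fin n)) :
    (Submodule.span B (⋃ J ∈ I.powerset, Set.range (fun k : Fin m => (∏ i ∈ I \ J, t i) •
      LogConn.compProd nabla ω J (e k)))).restrictScalars A = LogConn.piece nabla ω t I := by
  classical
  apply le_antisymm
  · show Submodule.span B _ ≤ pieceB h I
    rw [Submodule.span_le]
    intro x hx
    simp only [Set.mem_iUnion] at hx
    obtain ⟨J, hJ, k, rfl⟩ := hx
    exact gen_mem (Finset.mem_powerset.1 hJ) _
  · intro x hx
    refine piece_induction (P := fun x => x ∈ (Submodule.span B _).restrictScalars A) hx (zero_mem _)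
      (fun x y hx hy => add_mem hx hy) fun J hJ x => ?_
    let G : Finset (Fin n) → Submodule B E := fun J => Submodule.span B
      {y | ∃ J', J' ⊆ J ∧ ∃ k, y = (∏ i ∈ J \ J', t i) • LogConn.compProd nabla ω J' (e k)}
    have key : ∀ J : Finset (Fin n), ∀ x, LogConn.compProd nabla ω J x ∈ G J := by
      intro J
      induction J using Finset.induction_on_min with
      | empty =>
        intro x
        rw [compProd_empty]
        have hx : x ∈ Submodule.span B (Set.range e) := by rw [he]; trivial
        refine Submodule.span_le.2 ?_ hx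
        rintro _ ⟨k, rfl⟩
        exact Submodule.subset_span ⟨∅, Finset.Subset.refl _, k, by simp [compProd_empty]⟩
      | insert a s ha ih =>
        intro x
        have has : a ∉ s := fun h' => lt_irrefl a (ha a h')
        rw [compProd_insert ha]
        have htG : ∀ y ∈ G s, t a • y ∈ G (insert a s) := by
          intro y hy
          induction hy using Submodule.span_induction with
          | zero => simp
          | add y z _ _ hy hz => rw [smul_add]; exact add_mem hy hz
          | smul b y _ hy => rw [smul_comm]; exact Submodule.smul_mem _ _ hy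
          | mem y hy =>
            obtain ⟨J', hJ', k, rfl⟩ := hy
            refine Submodule.subset_span ⟨J', hJ'.trans (Finset.subset_insert _ _), k, ?_⟩
            rw [smul_smul, Finset.insert_sdiff_of_notMem _ (fun h' => has (hJ' h')),
              Finset.prod_insert (fun h' => has (Finset.mem_sdiff.1 h').1)]
        have hcG : ∀ y ∈ G s, LogConn.comp nabla ω a y ∈ G (insert a s) := by
          intro y hy
          induction hy using Submodule.span_induction with
          | zero => simp
          | add y z _ _ hy hz => rw [map_add]; exact add_mem hy hz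
          | smul b y hy' hy =>
            obtain ⟨c, hc⟩ := h.dvd a (KaehlerDifferential.D A B b)
            rw [comp_smul h, show theta ω ι a b = t a * c from hc, show lam * (t a * c) = (lam * c) * t a by ring,
              mul_smul]
            exact add_mem (Submodule.smul_mem _ _ hy) (Submodule.smul_mem _ _ (htG y hy'))
          | mem y hy =>
            obtain ⟨J', hJ', k, rfl⟩ := hy
            rw [comp_smul h, theta_prod h, if_neg (by simp [has]), mul_zero, zero_smul, add_zero,
              ← compProd_insert fun x hx => ha x (hJ' hx)]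
            refine Submodule.subset_span ⟨insert a J', Finset.insert_subset_insert a hJ', k, ?_⟩
            rw [Finset.insert_sdiff_insert, Finset.sdiff_insert_of_notMem has]
        exact hcG _ (ih x)
    have hmono : ∀ y ∈ G J, (∏ i ∈ I \ J, t i) • y ∈ Submodule.span B (⋃ J ∈ I.powerset,
        Set.range (fun k : Fin m => (∏ i ∈ I \ J, t i) • LogConn.compProd nabla ω J (e k))) := by
      intro y hy
      induction hy using Submodule.span_induction with
      | zero => simp
      | add y z _ _ hy hz => rw [smul_add]; exact add_mem hy hz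
      | smul b y _ hy => rw [smul_comm]; exact Submodule.smul_mem _ _ hy
      | mem y hy =>
        obtain ⟨J', hJ', k, rfl⟩ := hy
        refine Submodule.subset_span ?_
        simp only [Set.mem_iUnion]
        refine ⟨J', Finset.mem_powerset.2 (hJ'.trans hJ), k, ?_⟩
        rw [smul_smul, ← Finset.prod_union (Finset.disjoint_left.2 fun j h1 h2 =>
          (Finset.mem_sdiff.1 h1).2 (Finset.mem_sdiff.1 h2).1)]
        have : I \ J ∪ J \ J' = I \ J' := by
          ext j
          simp only [Finset.mem_union, Finset.mem_sdiff]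
          exact ⟨fun h => h.elim (fun h => ⟨h.1, fun h' => h.2 (hJ' h')⟩) (fun h => ⟨hJ h.1, h.2⟩),
            fun h => by by_cases hjJ : j ∈ J <;> simp [h.1, h.2, hjJ]⟩
        rw [this]
    exact hmono _ (key J x)

end Groth.Agent.LogConnLib
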