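import Groth.Agent.LogConnLib.Basic

/-! Layers: generators and change of coordinates. -/

set_option autoImplicit false
set_option backward.isDefEq.respectTransparency false

universe v u

open TensorProduct Finset

noncomputable section

namespace Groth.Agent.LogConnLib

variable {A : Type v} {B L E : Type u} [CommRing A] [CommRing B] [Algebra A B]
  [AddCommGroup L] [Module B L] [Module A L] [IsScalarTower A B L]
  [AddCommGroup E] [Module B E] [Module A E] [IsScalarTower A B E] {n : ℕ}
  {lam : B} {t : Fin n → B} {ω : Module.Basis (Fin n) B L} {nabla : E →ₗ[A] E ⊗[B] L}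
  {ι : KaehlerDifferential A B →ₗ[B] L}

theorem gen_tmul_mem_span (h : Data lam t ω nabla ι) {p : ℕ} (K : Set.powersetCard (Fin n) p) {J : Finset (Fin n)}
    (hJ : J ⊆ (K : Finset (Fin n))) (e : E) :
    ((∏ i ∈ (K : Finset (Fin n)) \ J, t i) • LogConn.compProd nabla ω J e) ⊗ₜ[B] ω.exteriorPower p K ∈
      Submodule.span B (LogConn.gens nabla ω ι p) := by
  classical
  have hp : J.card + ((K : Finset (Fin n)) \ J).card = p := by
    rw [Finset.card_sdiff_of_subset hJ, Set.powersetCard.card_eq]
    have := Finset.card_le_card hJ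
    rw [Set.powersetCard.card_eq] at this
    omega
  let r : Fin p → Fin n := fun k => if hk : k.val < J.card then J.orderEmbOfFin rfl ⟨k.val, hk⟩
    else ((K : Finset (Fin n)) \ J).orderEmbOfFin rfl ⟨k.val - J.card, by omega⟩
  have hrJ : ∀ k : Fin p, r k ∈ J ↔ k.val < J.card := fun k => by
    simp only [r]
    split_ifs with hk
    · simp [hk, Finset.orderEmbOfFin_mem]
    · simp [hk, (Finset.mem_sdiff.1 (Finset.orderEmbOfFin_mem ((K : Finset (Fin n)) \ J) rfl
        ⟨k.val - J.card, by omega⟩)).2]
  have hrK : ∀ k, r k ∈ (K : Finset (Fin n)) := fun k => by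
    simp only [r]
    split_ifs with hk
    · exact hJ (Finset.orderEmbOfFin_mem _ _ _)
    · exact (Finset.mem_sdiff.1 (Finset.orderEmbOfFin_mem ((K : Finset (Fin n)) \ J) rfl _)).1
  have hr : Function.Injective r := by
    intro k k' hkk
    by_cases hk : k.val < J.card <;> by_cases hk' : k'.val < J.card
    · simp only [r, dif_pos hk, dif_pos hk'] at hkk
      exact Fin.ext (by simpa using (J.orderEmbOfFin rfl).injective hkk)
    · exact absurd ((hrJ k').1 (hkk ▸ (hrJ k).2 hk)) hk'
    · exact absurd ((hrJ k).1 (hkk.symm ▸ (hrJ k').2 hk')) hk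
    · simp only [r, dif_neg hk, dif_neg hk'] at hkk
      have := (((K : Finset (Fin n)) \ J).orderEmbOfFin rfl).injective hkk
      simp only [Fin.mk.injEq] at this
      exact Fin.ext (by omega)
  choose σ hσ using fun k => (mem_iff_exists K (r k)).1 (hrK k)
  have hσ' : Function.Injective σ := fun a b hab => hr (by rw [← hσ a, ← hσ b, hab])
  let τ : Equiv.Perm (Fin p) := Equiv.ofBijective σ hσ'.bijective_of_finite
  let v : Fin p → L := fun k => (if r k ∈ J then 1 else t (r k)) • ω (r k)
  have hv : exteriorPower.ιMulti B p v =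
      (∏ i ∈ (K : Finset (Fin n)) \ J, t i) • Equiv.Perm.sign τ • ω.exteriorPower p K := by
    have h1 : exteriorPower.ιMulti B p v = (∏ k, if r k ∈ J then 1 else t (r k)) •
        exteriorPower.ιMulti B p (fun k => ω (r k)) :=
      (exteriorPower.ιMulti B p).toMultilinearMap.map_smul_univ _ _
    rw [h1, basis_eq, ← AlternatingMap.map_perm]
    congr 1
    · rw [← Finset.prod_image (g := r) (f := fun i => if i ∈ J then 1 else t i) (fun a _ b _ h => hr h)]
      have : Finset.univ.image r = (K : Finset (Fin n)) :=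
        Finset.eq_of_subset_of_card_le (Finset.image_subset_iff.2 fun k _ => hrK k) (by
          rw [Finset.card_image_of_injective _ hr, Finset.card_univ, Fintype.card_fin, Set.powersetCard.card_eq])
      rw [this, ← Finset.prod_sdiff hJ, Finset.prod_eq_one (s := J) (fun i hi => if_pos hi), mul_one]
      exact Finset.prod_congr rfl fun i hi => if_neg (Finset.mem_sdiff.1 hi).2
    · congr 1
      funext k
      simp [τ, hσ]
  have hmem : LogConn.compProd nabla ω J e ⊗ₜ[B] exteriorPower.ιMulti B p v ∈ LogConn.gens nabla ω ι p := by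
    refine ⟨J, by omega, e, v, fun k hk => ?_, fun k hk => ?_, rfl⟩
    · simp only [v, if_pos ((hrJ k).2 hk), one_smul]
      simp only [r, dif_pos hk]
    · simp only [v, if_neg (fun h' => absurd ((hrJ k).1 h') (not_lt.2 hk))]
      exact ⟨_, h.hι (r k)⟩
  rw [TensorProduct.smul_tmul, show (∏ i ∈ (K : Finset (Fin n)) \ J, t i) • ω.exteriorPower p K =
    Equiv.Perm.sign τ • exteriorPower.ιMulti B p v by
      rw [hv, smul_comm (Equiv.Perm.sign τ), smul_smul, Int.units_mul_self, one_smul]]
  rw [Units.smul_def, tmul_smul]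
  exact zsmul_mem (Submodule.subset_span hmem) _

theorem span_gens_eq (h : Data lam t ω nabla ι) (p : ℕ) :
    (Submodule.span B (LogConn.gens nabla ω ι p)).restrictScalars A = LogConn.layer nabla ω t p := by
  classical
  apply le_antisymm
  · intro x hx
    rw [mem_layer_iff]
    intro K
    replace hx : x ∈ Submodule.span B (LogConn.gens nabla ω ι p) := hx
    induction hx using Submodule.span_induction with
    | zero => simp
    | add a b _ _ ha hb => rw [map_add]; exact add_mem ha hb
    | smul b a _ ha => rw [map_smul]; exact smul_mem h b ha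
    | mem a ha =>
      obtain ⟨I, hI, e, v, hv1, hv2, rfl⟩ := ha
      rw [coordE_tmul]
      by_cases hIK : I ⊆ (K : Finset (Fin n))
      · refine dvd_smul_mem h ?_ (gen_mem hIK e)
        have := prod_inter_dvd_det t ((K : Finset (Fin n)) \ I) _ (Set.powersetCard.ofFinEmbEquiv.symm K).injective
          (Matrix.of fun i j => ω.coord (Set.powersetCard.ofFinEmbEquiv.symm K j) (v i)) fun i c hc => by
            rcases lt_or_ge i.val I.card with hi | hi
            · simp only [Matrix.of_apply, hv1 i hi, Module.Basis.coord_apply, Module.Basis.repr_self]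
              rw [Finsupp.single_eq_of_ne]
              · exact dvd_zero _
              · intro e'
                exact (Finset.mem_sdiff.1 hc).2 (e' ▸ Finset.orderEmbOfFin_mem I rfl ⟨i.val, hi⟩)
            · obtain ⟨x, hx⟩ := hv2 i hi
              rw [Matrix.of_apply, ← hx]
              exact h.dvd _ _
        rwa [image_ofFin, Finset.inter_eq_left.2 Finset.sdiff_subset] at this
      · obtain ⟨j, hj, hjK⟩ := Finset.not_subset.1 hIK
        obtain ⟨k, hk⟩ : ∃ k, I.orderEmbOfFin rfl k = j := by
          have : j ∈ Set.range (I.orderEmbOfFin rfl) := by rw [Finset.range_orderEmbOfFin]; exact hj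
          exact this
        rw [Matrix.det_eq_zero_of_row_eq_zero ⟨k.val, lt_of_lt_of_le k.isLt hI⟩ (fun c => ?_), zero_smul]
        · exact zero_mem _
        · simp only [Matrix.of_apply, hv1 ⟨k.val, _⟩ k.isLt, Fin.eta, hk, Module.Basis.coord_apply, Module.Basis.repr_self]
          exact Finsupp.single_eq_of_ne fun e' => hjK (e' ▸ (mem_iff_exists K _).2 ⟨c, rfl⟩)
  · intro x hx
    rw [mem_layer_iff] at hx
    rw [coordE_eq ω x]
    refine Submodule.sum_mem _ fun K _ => ?_
    show _ ∈ Submodule.span B (LogConn.gens nabla ω ι p)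
    refine piece_induction (hx K) (by simp) (fun a b ha hb => by rw [add_tmul]; exact add_mem ha hb) fun J hJ e => ?_
    exact gen_tmul_mem_span h K hJ e

theorem nablas_layer (h : Data lam t ω nabla ι) {d : ∀ p : ℕ, ↥(⋀[B]^p L) →ₗ[A] ↥(⋀[B]^(p + 1) L)}
    {nablas : ∀ p : ℕ, E ⊗[B] ↥(⋀[B]^p L) →ₗ[A] E ⊗[B] ↥(⋀[B]^(p + 1) L)}
    (hd : LogDiff.IsLogRule (KaehlerDifferential.D A B) ι (⇑ω) d)
    (hint : Conn.IsIntegrable nabla (fun p => lam • d p) nablas) (p : ℕ) {x : E ⊗[B] ↥(⋀[B]^p L)}
    (hx : x ∈ LogConn.layer nabla ω t p) : nablas p x ∈ LogConn.layer nabla ω t (p + 1) := by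
  classical
  have hC := commutes hd hint
  rw [mem_layer_iff] at hx ⊢
  intro K'
  rw [coordE_eq ω x, map_sum, map_sum]
  refine Submodule.sum_mem _ fun K _ => ?_
  rw [basis_eq, nablas_apply hd hint.1, map_sum]
  refine Submodule.sum_mem _ fun l _ => ?_
  rw [coordE_tmul]
  by_cases hsub : (K' : Finset (Fin n)) ⊆ insert l (K : Finset (Fin n))
  · exact smul_mem h _ (mono h hC hsub (comp_mem h hC l (hx K)))
  · obtain ⟨j, hj, hjK⟩ := Finset.not_subset.1 hsub
    obtain ⟨c, rfl⟩ := (mem_iff_exists K' j).1 hj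
    rw [Matrix.det_eq_zero_of_column_eq_zero c (fun i => ?_), zero_smul]
    · exact zero_mem _
    · simp only [Matrix.of_apply, Function.comp_apply, Module.Basis.coord_apply, Module.Basis.repr_self]
      refine Finsupp.single_eq_of_ne fun e' => hjK ?_
      rw [e']
      induction i using Fin.cases with
      | zero => simp
      | succ i => simpa using Or.inr ((mem_iff_exists K _).2 ⟨i, rfl⟩)

variable {t' : Fin n → B} {ω' : Module.Basis (Fin n) B L}

theorem comp_change (i : Fin n) (e : E) :
    LogConn.comp nabla ω' i e = ∑ l, ω'.coord i (ω l) • LogConn.comp nabla ω l e := by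
  conv_lhs => rw [LogConn.comp, Conn.along_apply, expand ω (nabla e)]
  simp only [map_sum, TensorProduct.map_tmul, LinearMap.id_apply, TensorProduct.rid_tmul]
  rfl

theorem piece_change (h : Data lam t ω nabla ι) (h' : Data lam t' ω' nabla ι) (hC : Commutes nabla ω)
    (u : Fin n → Bˣ) (ht : ∀ i, t' i = u i * t i)
    (hco : ∀ a l, t a ∣ ω'.coord a (ω l) - if l = a then 1 else 0) :
    ∀ K : Finset (Fin n), LogConn.piece nabla ω' t' K = LogConn.piece nabla ω t K := by
  classical
  have hu : ∀ S : Finset (Fin n), (∏ i ∈ S, t' i) ∣ (∏ i ∈ S, t i) ∧ (∏ i ∈ S, t i) ∣ ∏ i ∈ S, t' i := fun S =>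
    ⟨Finset.prod_dvd_prod_of_dvd _ _ fun i _ => ⟨((u i)⁻¹ : Bˣ).val, by rw [ht, mul_right_comm, Units.mul_inv, one_mul]⟩,
      Finset.prod_dvd_prod_of_dvd _ _ fun i _ => ⟨(u i : B), by rw [ht, mul_comm]⟩⟩
  choose g hg using hco
  have hrel : ∀ a e, LogConn.comp nabla ω' a e =
      LogConn.comp nabla ω a e + t a • ∑ l, g a l • LogConn.comp nabla ω l e := fun a e => by
    rw [comp_change (ω := ω), Finset.smul_sum]
    have : ∀ l, ω'.coord a (ω l) = (if l = a then 1 else 0) + t a * g a l := fun l => by rw [← hg a l]; ring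
    simp only [this, add_smul, Finset.sum_add_distrib, ite_smul, one_smul, zero_smul, Finset.sum_ite_eq',
      Finset.mem_univ, if_true, smul_smul]
  -- it suffices to compare the composites
  suffices key : ∀ J : Finset (Fin n),
      (∀ e, LogConn.compProd nabla ω' J e ∈ LogConn.piece nabla ω t J) ∧
      ∀ e, LogConn.compProd nabla ω J e ∈ LogConn.piece nabla ω' t' J by
    intro K
    apply le_antisymm <;> intro x hx
    · refine piece_induction hx (zero_mem _) (fun _ _ => add_mem) fun J hJ e => ?_
      exact dvd_smul_mem h (hu _).2 (prod_smul_mem hJ ((key J).1 e))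
    · refine piece_induction hx (zero_mem _) (fun _ _ => add_mem) fun J hJ e => ?_
      exact dvd_smul_mem h' (hu _).1 (prod_smul_mem hJ ((key J).2 e))
  intro J
  induction J using Finset.strongInduction with
  | _ J ih =>
    rcases J.eq_empty_or_nonempty with rfl | hne
    · refine ⟨fun e => ?_, fun e => ?_⟩
      · rw [compProd_empty]; simpa [compProd_empty] using gen_mem (nabla := nabla) (ω := ω) (t := t) (Finset.Subset.refl ∅) e
      · rw [compProd_empty]; simpa [compProd_empty] using gen_mem (nabla := nabla) (ω := ω') (t := t') (Finset.Subset.refl ∅) e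
    · obtain ⟨a, s, has, ha, rfl⟩ : ∃ a s, a ∉ s ∧ (∀ x ∈ s, a < x) ∧ J = insert a s :=
        ⟨J.min' hne, J.erase (J.min' hne), Finset.notMem_erase _ _,
          fun x hx => lt_of_le_of_ne (Finset.min'_le _ _ (Finset.mem_of_mem_erase hx)) (Finset.ne_of_mem_erase hx).symm,
          (Finset.insert_erase (Finset.min'_mem _ _)).symm⟩
      have hlt : s ⊂ insert a s := Finset.ssubset_insert has
      have heq : ∀ x, x ∈ LogConn.piece nabla ω' t' s ↔ x ∈ LogConn.piece nabla ω t s := fun x => by
        have hs : ∀ J', J' ⊆ s → J' ⊂ insert a s := fun J' hJ' => lt_of_le_of_lt hJ' hlt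
        constructor <;> intro hx
        · exact piece_induction hx (zero_mem _) (fun _ _ => add_mem) fun J hJ e =>
            dvd_smul_mem h (hu _).2 (prod_smul_mem hJ ((ih J (hs J hJ)).1 e))
        · exact piece_induction hx (zero_mem _) (fun _ _ => add_mem) fun J hJ e =>
            dvd_smul_mem h' (hu _).1 (prod_smul_mem hJ ((ih J (hs J hJ)).2 e))
      have hextra : ∀ x ∈ LogConn.piece nabla ω t s,
          (∑ l, g a l • LogConn.comp nabla ω l x) ∈ LogConn.piece nabla ω t s := fun x hx =>
        Submodule.sum_mem _ fun l _ => smul_mem h _ (mono h hC (Finset.subset_insert l s) (comp_mem h hC l hx))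
      constructor
      · intro e
        rw [compProd_insert ha, hrel]
        have hx := (ih s hlt).1 e
        exact add_mem (comp_min_mem h ha hx) (t_smul_mem has (hextra _ hx))
      · intro e
        have hx := (ih s hlt).2 e
        rw [compProd_insert ha, eq_sub_of_add_eq (hrel a (LogConn.compProd nabla ω s e)).symm]
        refine sub_mem (comp_min_mem h' ha hx) ?_
        refine dvd_smul_mem h' ⟨((u a)⁻¹ : Bˣ).val, ?_⟩
          (t_smul_mem has ((heq _).2 (hextra _ ((heq _).1 hx))))
        rw [ht, mul_right_comm, Units.mul_inv, one_mul]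

theorem layer_le_change {ω₁ ω₂ : Module.Basis (Fin n) B L} {t₁ t₂ : Fin n → B} (h : Data lam t ω nabla ι)
    (hC : Commutes nabla ω) (hP : ∀ K, LogConn.piece nabla ω₁ t₁ K = LogConn.piece nabla ω t K)
    (hP₂ : ∀ K, LogConn.piece nabla ω₂ t₂ K = LogConn.piece nabla ω t K)
    (hdvd : ∀ j i, i ≠ j → t j ∣ ω₂.coord j (ω₁ i)) (p : ℕ) :
    LogConn.layer nabla ω₁ t₁ p ≤ LogConn.layer nabla ω₂ t₂ p := by
  classical
  intro x hx
  rw [mem_layer_iff] at hx ⊢
  intro K'
  rw [coordE_eq ω₁ x, map_sum]
  refine Submodule.sum_mem _ fun K _ => ?_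
  rw [basis_eq, coordE_tmul, hP₂]
  have hxK := hx K
  rw [hP] at hxK
  refine dvd_smul_mem h ?_ (absorb_mem h hC (S := (K' : Finset (Fin n)) \ (K : Finset (Fin n))) (K := (K' : Finset (Fin n))) (fun j hj => by
    by_cases hjK : j ∈ (K : Finset (Fin n))
    · exact Finset.mem_union_right _ hjK
    · exact Finset.mem_union_left _ (Finset.mem_sdiff.2 ⟨hj, hjK⟩)) hxK)
  have := prod_inter_dvd_det t ((K' : Finset (Fin n)) \ (K : Finset (Fin n))) _
    (Set.powersetCard.ofFinEmbEquiv.symm K').injective
    (Matrix.of fun i j => ω₂.coord (Set.powersetCard.ofFinEmbEquiv.symm K' j)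
      ((ω₁ ∘ Set.powersetCard.ofFinEmbEquiv.symm K) i)) fun i c hc => by
      refine hdvd _ _ fun e' => (Finset.mem_sdiff.1 hc).2 ?_
      exact (mem_iff_exists K _).2 ⟨i, e'⟩
  rwa [image_ofFin, Finset.inter_eq_left.2 Finset.sdiff_subset] at this

theorem layer_eq_change (h : Data lam t ω nabla ι) (hC : Commutes nabla ω) (u : Fin n → Bˣ)
    (bΩ' : Module.Basis (Fin n) B (KaehlerDifferential A B))
    (hbΩ' : ∀ i, bΩ' i = KaehlerDifferential.D A B ((u i : B) * t i))
    (hω' : ∀ i, ω' i = ω i + ((u i)⁻¹ : Bˣ).val • ι (KaehlerDifferential.D A B (u i : B))) (p : ℕ) :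
    LogConn.layer nabla ω t p = LogConn.layer nabla ω' (fun i => (u i : B) * t i) p := by
  classical
  have hι' : ∀ i, ι (KaehlerDifferential.D A B ((u i : B) * t i)) = ((u i : B) * t i) • ω' i := fun i => by
    rw [Derivation.leibniz, map_add, map_smul, map_smul, h.hι, hω', smul_add, smul_smul, smul_smul,
      show ((u i : B) * t i) * ((u i)⁻¹ : Bˣ).val = t i by rw [mul_comm (u i : B), mul_assoc, Units.mul_inv, mul_one]]
  have hω : ∀ i, ω i = ω' i - ((u i)⁻¹ : Bˣ).val • ι (KaehlerDifferential.D A B (u i : B)) := fun i => by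
    rw [hω', add_sub_cancel_right]
  have h' : Data lam (fun i => (u i : B) * t i) ω' nabla ι := Data.mk' bΩ' hbΩ' hι' h.hc
  have hdvd' : ∀ a x, t a ∣ ω'.coord a (ι x) := fun a x => (Dvd.intro_left _ rfl).trans (h'.dvd a x)
  have hco : ∀ a l, t a ∣ ω'.coord a (ω l) - if l = a then 1 else 0 := fun a l => by
    rw [hω l, map_sub, map_smul, Module.Basis.coord_apply, Module.Basis.repr_self, Finsupp.single_apply,
      sub_right_comm, sub_self, zero_sub, smul_eq_mul]
    exact ((hdvd' a _).mul_left _).neg_right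
  have hP := piece_change h h' hC u (fun i => rfl) hco
  apply le_antisymm
  · exact layer_le_change h hC (fun K => rfl) hP (fun j i hij => by
      simpa [hij] using hco j i) p
  · refine layer_le_change h hC hP (fun K => rfl) (fun j i hij => ?_) p
    rw [hω' i, map_add, map_smul, Module.Basis.coord_apply, Module.Basis.repr_self, Finsupp.single_eq_of_ne hij.symm,
      zero_add, smul_eq_mul]
    exact (h.dvd j _).mul_left _

end Groth.Agent.LogConnLib
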